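import Cfsg.Agent.Lib.FischerTwins.SympIso
import Cfsg.Agent.Lib.FischerClass.Kinds

/-!
A group whose twin lines have three points is a symplectic group over two elements, with the class going
to the transvections.
-/

set_option autoImplicit false
set_option linter.style.haveILetI false

namespace Cfsg.Agent.FischerClassEnd

open Cfsg.Agent Cfsg.Agent.Fischer Cfsg.Agent.FischerTwins Cfsg.Agent.FischerClass Subgroup
open Cfsg.Agent.Fischer.LocalSymThree (nb nb_symm)
open LinearMap (BilinForm)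

variable {G : Type*} [Group G] {D : Set G}

theorem two_rel : ∀ p q r : ZMod 2, p + q + r = p → q = r := by decide

theorem symp_kind [Finite G] (hH : FischerTwins.Hyp D)
    (h3 : ∀ p ∈ D, ∀ q ∈ nb D p, (Line D p q).ncard = 3)
    (hw : ∃ a ∈ D, ∃ b ∈ D, a ≠ b ∧ Commute a b) : ∃ m, 2 ≤ m ∧ IsSp D m := by
  classical
  haveI : Fact (Nat.Prime 2) := ⟨Nat.prime_two⟩
  let W : Submodule (ZMod 2) (D → ZMod 2) :=
    { carrier := {w | w = 0 ∨ ∃ d ∈ D, w = pat D d}
      zero_mem' := Or.inl rfl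
      add_mem' := by
        rintro v w (rfl | ⟨a, ha, rfl⟩) (rfl | ⟨b, hb, rfl⟩)
        · exact Or.inl (add_zero 0)
        · exact Or.inr ⟨b, hb, zero_add _⟩
        · exact Or.inr ⟨a, ha, add_zero _⟩
        · rcases hH.pat_add h3 ha hb with h | ⟨c, hc, h⟩
          exacts [Or.inl h, Or.inr ⟨c, hc, h⟩]
      smul_mem' := by
        intro k w hw
        rcases zmod_two_cases k with rfl | rfl
        · exact Or.inl (zero_smul _ w)
        · rwa [one_smul] }
  have hWmem : ∀ w : W, (w : D → ZMod 2) = 0 ∨ ∃ d ∈ D, (w : D → ZMod 2) = pat D d := fun w => w.2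
  let mk : D → W := fun d => ⟨pat D d, Or.inr ⟨d, d.2, rfl⟩⟩
  let ev : W → W → ZMod 2 := fun v w =>
    if h : ∃ d : D, (w : D → ZMod 2) = pat D d then (v : D → ZMod 2) h.choose else 0
  have ev0 : ∀ v : W, ev v 0 = 0 := fun v => by
    simp only [ev]
    rw [dif_neg]
    rintro ⟨d, hd⟩
    exact hH.pat_ne_zero d.2 hd.symm
  have evd : ∀ (v : W) (d : D), ev v (mk d) = (v : D → ZMod 2) d := fun v d => by
    have h : ∃ d' : D, (mk d : D → ZMod 2) = pat D d' := ⟨d, rfl⟩
    simp only [ev]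
    rw [dif_pos h]
    exact congrArg _ (Subtype.ext (hH.pat_inj h.choose.2 d.2 h.choose_spec.symm))
  have cases2 : ∀ w : W, w = 0 ∨ ∃ d : D, w = mk d := fun w => by
    rcases hWmem w with h | ⟨d, hd, h⟩
    exacts [Or.inl (Subtype.ext h), Or.inr ⟨⟨d, hd⟩, Subtype.ext h⟩]
  have evs : ∀ v w : W, ev v w = ev w v := by
    intro v w
    rcases cases2 v with rfl | ⟨a, rfl⟩ <;> rcases cases2 w with rfl | ⟨b, rfl⟩
    · rfl
    · rw [ev0 (mk b), evd]; rfl
    · rw [ev0 (mk a), evd]; rfl
    · rw [evd, evd]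
      exact pat_symm a b
  have evl : ∀ (v v' w : W), ev (v + v') w = ev v w + ev v' w := by
    intro v v' w
    rcases cases2 w with rfl | ⟨b, rfl⟩
    · simp [ev0]
    · rw [evd, evd, evd]; rfl
  have evsm : ∀ (k : ZMod 2) (v w : W), ev (k • v) w = k * ev v w := by
    intro k v w
    rcases cases2 w with rfl | ⟨b, rfl⟩
    · simp [ev0]
    · rw [evd, evd]; rfl
  let B : BilinForm (ZMod 2) W := LinearMap.mk₂ (ZMod 2) ev evl evsm
    (fun v w w' => by rw [evs, evl, evs w, evs w']) (fun k v w => by rw [evs, evsm, evs w]; rfl)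
  have hB : ∀ v w, B v w = ev v w := fun v w => rfl
  have hA : B.IsAlt := by
    intro v
    show B v v = 0
    rw [hB]
    rcases cases2 v with rfl | ⟨a, rfl⟩
    · exact ev0 _
    · rw [evd]; exact pat_of_commute (Commute.refl (a : G))
  have hnd : ∀ v, (∀ w, B v w = 0) → v = 0 := by
    intro v hv
    refine Subtype.ext (funext fun d => ?_)
    have := hv (mk d)
    rwa [hB, evd] at this
  -- the action
  let cj : G → D → D := fun g d => ⟨g * d * g⁻¹, hH.ctx.conj_mem g d.2⟩
  have cjmul : ∀ (g h : G) (d : D), cj (g * h) d = cj g (cj h d) := fun g h d => Subtype.ext (by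
    show g * h * d * (g * h)⁻¹ = g * (h * d * h⁻¹) * g⁻¹; group)
  have cjone : ∀ d : D, cj 1 d = d := fun d => Subtype.ext (by show 1 * (d : G) * 1⁻¹ = d; group)
  have cpat : ∀ (g : G) (d : G) (e : D), pat D (g * d * g⁻¹) e = pat D d (cj g⁻¹ e) := by
    intro g d e
    have hi : Commute (g * d * g⁻¹) (e : G) ↔ Commute d ((cj g⁻¹ e : D) : G) := by
      show _ ↔ Commute d (g⁻¹ * e * g⁻¹⁻¹)
      rw [← commute_conj_iff g d, inv_inv, show g * (g⁻¹ * (e : G) * g) * g⁻¹ = e by group]
    by_cases h : Commute (g * d * g⁻¹) (e : G)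
    · rw [pat_of_commute h, pat_of_commute (hi.1 h)]
    · rw [pat_of_not h, pat_of_not fun h' => h (hi.2 h')]
  let act : G → (D → ZMod 2) →ₗ[ZMod 2] (D → ZMod 2) := fun g =>
    LinearMap.funLeft (ZMod 2) (ZMod 2) (cj g⁻¹)
  have hact : ∀ g, ∀ w ∈ W, act g w ∈ W := by
    rintro g w (rfl | ⟨d, hd, rfl⟩)
    · exact Or.inl (map_zero _)
    · exact Or.inr ⟨g * d * g⁻¹, hH.ctx.conj_mem g hd, funext fun e => (cpat g d e).symm⟩
  let lw : G → W →ₗ[ZMod 2] W := fun g => (act g).restrict (hact g)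
  have lwa : ∀ g (w : W) (e : D), (lw g w : D → ZMod 2) e = (w : D → ZMod 2) (cj g⁻¹ e) := fun g w e => rfl
  have lwmul : ∀ g h w, lw (g * h) w = lw g (lw h w) := fun g h w => Subtype.ext (funext fun e => by
    rw [lwa, lwa, lwa, mul_inv_rev, cjmul])
  have lwone : ∀ w, lw 1 w = w := fun w => Subtype.ext (funext fun e => by rw [lwa, inv_one, cjone])
  have lwmk : ∀ g d, lw g (mk d) = mk (cj g d) := fun g d => Subtype.ext (funext fun e => (cpat g d e).symm)
  let φ : G →* (W ≃ₗ[ZMod 2] W) :=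
    { toFun := fun g => LinearEquiv.ofLinearMap (lw g) (lw g⁻¹)
        (LinearMap.ext fun w => by
          show lw g (lw g⁻¹ w) = w
          rw [← lwmul, mul_inv_cancel, lwone])
        (LinearMap.ext fun w => by
          show lw g⁻¹ (lw g w) = w
          rw [← lwmul, inv_mul_cancel, lwone])
      map_one' := LinearEquiv.ext lwone
      map_mul' := fun g h => LinearEquiv.ext (lwmul g h) }
  have hφ : ∀ g w, φ g w = lw g w := fun g w => rfl
  have hmem : ∀ g, φ g ∈ AltForm.isoGroup B := by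
    intro g v w
    rw [hφ, hφ, hB, hB]
    rcases cases2 w with rfl | ⟨b, rfl⟩
    · rw [map_zero, ev0, ev0]
    · rw [lwmk, evd, evd, lwa]
      congr 1
      rw [← cjmul, inv_mul_cancel, cjone]
  have hinj : Function.Injective φ := by
    rw [injective_iff_map_eq_one]
    intro g hg
    refine hH.eq_one_of_commute fun d hd => OddCoreLocal.commute_conj_self_iff.1 ?_
    have h1 := LinearEquiv.congr_fun hg (mk ⟨d, hd⟩)
    rw [hφ, lwmk] at h1
    exact hH.pat_inj (hH.ctx.conj_mem g hd) hd (congrArg Subtype.val h1)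
  have htr : ∀ d : D, φ d = AltForm.transv hA (mk d) 1 := by
    intro d
    refine LinearEquiv.ext fun w => ?_
    rw [hφ, AltForm.transv_apply, one_mul, hB]
    rcases cases2 w with rfl | ⟨b, rfl⟩
    · rw [map_zero, evs, ev0, zero_smul, add_zero]
    · rw [lwmk, evd]
      refine Subtype.ext (funext fun e => ?_)
      show pat D ((d : G) * b * (d : G)⁻¹) e = pat D b e + pat D b d * pat D d e
      rw [TSet.inv hH.tset d.2, hH.conj_pat h3 d.2 b.2]
      congr 2
      by_cases h : Commute (d : G) (b : G)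
      · rw [if_pos h, pat_of_commute h.symm]
      · rw [if_neg h, pat_of_not fun h' => h h'.symm]
  have hBn : B.Nondegenerate := (LinearMap.IsRefl.nondegenerate_iff_separatingLeft hA.isRefl).2 hnd
  have hrange : φ.range = AltForm.isoGroup B := by
    refine le_antisymm (by rintro _ ⟨g, rfl⟩; exact hmem g) ?_
    rw [AltForm.isoGroup_eq_transvGroup hA hBn, AltForm.transvGroup, closure_le]
    rintro g ⟨w, c, hg⟩
    have hg' : g = AltForm.transv hA w c := LinearEquiv.ext fun x => by rw [hg, AltForm.transv_apply]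
    rcases cases2 w with rfl | ⟨d, rfl⟩
    · refine ⟨1, ?_⟩
      rw [map_one]
      exact LinearEquiv.ext fun x => by rw [hg, smul_zero, add_zero]; rfl
    rcases zmod_two_cases c with rfl | rfl
    · refine ⟨1, ?_⟩
      rw [map_one]
      exact LinearEquiv.ext fun x => by rw [hg, zero_mul, zero_smul, add_zero]; rfl
    · exact ⟨d, (htr d).trans hg'.symm⟩
  obtain ⟨m, hm⟩ := AltForm.exists_finrank_eq hA hBn
  obtain ⟨ψ, hψ⟩ := SympStab.exists_isometry hA hnd hm
  have conj_mem : ∀ A : Matrix.symplecticGroup (Fin m) (ZMod 2),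
      ψ.symm.trans ((ClassicalSp.toEquiv A).trans ψ) ∈ AltForm.isoGroup B := by
    intro A u v
    obtain ⟨u', rfl⟩ := ψ.surjective u
    obtain ⟨v', rfl⟩ := ψ.surjective v
    simp only [LinearEquiv.trans_apply, LinearEquiv.symm_apply_apply, hψ]
    exact ClassicalSp.toEquiv_mem A u' v'
  let j : Matrix.symplecticGroup (Fin m) (ZMod 2) →* AltForm.isoGroup B :=
    MonoidHom.mk' (fun A => ⟨ψ.symm.trans ((ClassicalSp.toEquiv A).trans ψ), conj_mem A⟩) fun A A' =>
      Subtype.ext (LinearEquiv.ext fun x => by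
        show ψ (ClassicalSp.toEquiv (A * A') (ψ.symm x)) =
          ψ (ClassicalSp.toEquiv A (ψ.symm (ψ (ClassicalSp.toEquiv A' (ψ.symm x)))))
        rw [map_mul, LinearEquiv.symm_apply_apply]
        rfl)
  have hj : Function.Bijective j := by
    constructor
    · intro A A' h
      refine ClassicalSp.toEquiv_injective (LinearEquiv.ext fun x => ψ.injective ?_)
      have := LinearEquiv.congr_fun (congrArg Subtype.val h) (ψ x)
      simpa [j] using this
    · rintro ⟨g, hg⟩
      obtain ⟨A, hA'⟩ := ClassicalSp.toEquiv_surj (g := ψ.trans (g.trans ψ.symm)) (fun u v => by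
        rw [← hψ, ← hψ]
        simp only [LinearEquiv.trans_apply, LinearEquiv.apply_symm_apply]
        exact hg (ψ u) (ψ v))
      exact ⟨A, Subtype.ext (LinearEquiv.ext fun x => by simp [j, hA'])⟩
  let e : G ≃* Matrix.symplecticGroup (Fin m) (ZMod 2) :=
    ((MonoidHom.ofInjective hinj).trans (MulEquiv.subgroupCongr hrange)).trans
      (MulEquiv.ofBijective j hj).symm
  have he : ∀ g x, ψ (ClassicalSp.toEquiv (e g) x) = φ g (ψ x) := fun g x => by
    have h1 : (j (e g) : W ≃ₗ[ZMod 2] W) = φ g :=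
      congrArg Subtype.val ((MulEquiv.ofBijective j hj).apply_symm_apply _)
    have h2 := LinearEquiv.congr_fun h1 (ψ x)
    simpa [j] using h2
  refine ⟨m, ?_, e, Set.ext fun A => ⟨?_, fun hA1 => ?_⟩⟩
  · obtain ⟨a, ha, b, hb, hab, hc⟩ := hw
    have hli : LinearIndependent (ZMod 2) ![mk ⟨a, ha⟩, mk ⟨b, hb⟩] := by
      refine LinearIndependent.pair_iff.2 fun s t hst => ?_
      have hne1 : mk ⟨a, ha⟩ ≠ 0 := fun h => hH.pat_ne_zero ha (congrArg Subtype.val h)
      have hne2 : mk ⟨b, hb⟩ ≠ 0 := fun h => hH.pat_ne_zero hb (congrArg Subtype.val h)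
      have hne : mk ⟨a, ha⟩ ≠ mk ⟨b, hb⟩ := fun h => hab (hH.pat_inj ha hb (congrArg Subtype.val h))
      rcases zmod_two_cases s with rfl | rfl <;> rcases zmod_two_cases t with rfl | rfl
      · exact ⟨rfl, rfl⟩
      · rw [zero_smul, one_smul, zero_add] at hst; exact absurd hst hne2
      · rw [zero_smul, one_smul, add_zero] at hst; exact absurd hst hne1
      · rw [one_smul, one_smul] at hst
        refine absurd ?_ hne
        rw [← sub_eq_zero, ← hst]
        exact Subtype.ext (funext fun u => (CharTwo.sub_eq_add _ _))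
    let f : W →ₗ[ZMod 2] ZMod 2 := B (mk ⟨a, ha⟩)
    have hker : ∀ i, ![mk ⟨a, ha⟩, mk ⟨b, hb⟩] i ∈ f.ker := by
      intro i
      fin_cases i
      · exact hA _
      · show B (mk ⟨a, ha⟩) (mk ⟨b, hb⟩) = 0
        rw [hB, evd]
        exact pat_of_commute hc
    have h2 : 2 ≤ Module.finrank (ZMod 2) f.ker := by
      let vv : Fin 2 → f.ker := fun i => ⟨_, hker i⟩
      have hv : LinearIndependent (ZMod 2) vv := LinearIndependent.of_comp f.ker.subtype hli
      simpa using hv.fintype_card_le_finrank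
    have hlt : f.ker ≠ ⊤ := by
      intro h
      refine hH.pat_ne_zero ha (congrArg Subtype.val (hnd (mk ⟨a, ha⟩) fun w => ?_))
      exact LinearMap.mem_ker.1 (h ▸ Submodule.mem_top : w ∈ f.ker)
    have := Submodule.finrank_lt hlt
    omega
  · rintro ⟨d, hd, rfl⟩
    set u := ψ.symm (mk ⟨d, hd⟩) with hu
    have hval : ∀ x, ((e d : Matrix.symplecticGroup (Fin m) (ZMod 2)) :
        Matrix (Fin m ⊕ Fin m) (Fin m ⊕ Fin m) (ZMod 2)).mulVec x = x + B (ψ x) (mk ⟨d, hd⟩) • u := by
      intro x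
      apply ψ.injective
      rw [← ClassicalSp.toEquiv_apply, he, htr ⟨d, hd⟩, AltForm.transv_apply, map_add, map_smul, hu,
        LinearEquiv.apply_symm_apply, one_mul]
    have hu0 : u ≠ 0 := fun h => hH.pat_ne_zero hd (congrArg Subtype.val
      (show mk ⟨d, hd⟩ = 0 by rw [← ψ.apply_symm_apply (mk ⟨d, hd⟩), ← hu, h, map_zero]))
    obtain ⟨y, hy⟩ : ∃ y, B (ψ y) (mk ⟨d, hd⟩) = 1 := by
      by_contra hno
      push Not at hno
      refine hH.pat_ne_zero hd (congrArg Subtype.val (hnd (mk ⟨d, hd⟩) fun w => ?_))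
      rw [hB, evs, ← hB, ← ψ.apply_symm_apply w]
      exact (zmod_two_cases _).resolve_right (hno _)
    show (((e d : Matrix.symplecticGroup (Fin m) (ZMod 2)) :
        Matrix (Fin m ⊕ Fin m) (Fin m ⊕ Fin m) (ZMod 2)) - 1).rank = 1
    rw [Matrix.rank, show (((e d : Matrix.symplecticGroup (Fin m) (ZMod 2)) :
        Matrix (Fin m ⊕ Fin m) (Fin m ⊕ Fin m) (ZMod 2)) - 1).mulVecLin.range = Submodule.span (ZMod 2) {u} from ?_]
    · exact finrank_span_singleton hu0
    refine le_antisymm ?_ ((Submodule.span_singleton_le_iff_mem _ _).2 ⟨y, ?_⟩)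
    · rintro _ ⟨x, rfl⟩
      rw [Matrix.mulVecLin_apply, Matrix.sub_mulVec, Matrix.one_mulVec, hval, add_sub_cancel_left]
      exact Submodule.smul_mem _ _ (Submodule.mem_span_singleton_self u)
    · rw [Matrix.mulVecLin_apply, Matrix.sub_mulVec, Matrix.one_mulVec, hval, hy, one_smul, add_sub_cancel_left]
  · obtain ⟨⟨v, hv⟩, hv0, hspan⟩ := finrank_eq_one_iff'.1 hA1
    have hcoef : ∀ x, ∃ a : ZMod 2, ψ (ClassicalSp.toEquiv A (ψ.symm x)) = x + a • ψ v := fun x => by
      obtain ⟨a, ha⟩ := hspan ⟨((A : Matrix (Fin m ⊕ Fin m) (Fin m ⊕ Fin m) (ZMod 2)) - 1).mulVecLin (ψ.symm x),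
        LinearMap.mem_range_self _ _⟩
      refine ⟨a, ?_⟩
      have h2 : a • v = ((A : Matrix (Fin m ⊕ Fin m) (Fin m ⊕ Fin m) (ZMod 2)) - 1).mulVec (ψ.symm x) :=
        congrArg Subtype.val ha
      rw [← map_smul, h2, Matrix.sub_mulVec, Matrix.one_mulVec, map_sub, LinearEquiv.apply_symm_apply,
        ClassicalSp.toEquiv_apply]
      abel
    choose c hc using hcoef
    have hw0 : ψ v ≠ 0 := fun h => hv0 (Subtype.ext (ψ.map_eq_zero_iff.1 h))
    obtain ⟨d, hd⟩ := (cases2 (ψ v)).resolve_left hw0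
    have hrel : ∀ x y, c x * B y (ψ v) = c y * B x (ψ v) := fun x y => by
      have h1 : B (x + c x • ψ v) (y + c y • ψ v) = B x y := by
        rw [← hc, ← hc]
        exact conj_mem A x y
      simp only [map_add, map_smul, LinearMap.add_apply, LinearMap.smul_apply, smul_eq_mul, hA (ψ v), mul_zero,
        add_zero] at h1
      rw [show B (ψ v) y = B y (ψ v) by rw [hB, hB, evs]] at h1
      exact two_rel _ _ _ h1
    obtain ⟨y, hy⟩ : ∃ y, B y (ψ v) = 1 := by
      by_contra hno
      push Not at hno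
      refine hw0 (hnd (ψ v) fun w => ?_)
      rw [hB, evs, ← hB]
      exact (zmod_two_cases _).resolve_right (hno _)
    have hcy : ∀ x, c x = c y * B x (ψ v) := fun x => by simpa [hy] using hrel x y
    have hc1 : c y = 1 := by
      refine (zmod_two_cases _).resolve_left fun h0 => hv0 ?_
      obtain ⟨z, hz⟩ := hv
      refine Subtype.ext (ψ.injective ?_)
      have h2 := hc (ψ z)
      rw [hcy, h0, zero_mul, zero_smul, add_zero, LinearEquiv.symm_apply_apply] at h2
      show ψ v = ψ 0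
      rw [← hz, Matrix.mulVecLin_apply, Matrix.sub_mulVec, Matrix.one_mulVec, ← ClassicalSp.toEquiv_apply,
        ψ.injective h2, sub_self]
    refine ⟨d, d.2, ClassicalSp.toEquiv_injective (LinearEquiv.ext fun x => ψ.injective ?_)⟩
    have h2 := hc (ψ x)
    rw [LinearEquiv.symm_apply_apply] at h2
    rw [he, htr d, AltForm.transv_apply, h2, hcy, hc1, hd]

end Cfsg.Agent.FischerClassEnd
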