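import Cfsg.Agent.Lib.FischerTwins.Final
import Cfsg.Agent.Lib.FischerO3.Bases

/-!
A group whose twin lines have five points is a projective unitary group over four elements, with the class
going to the images of the transvections.
-/

set_option autoImplicit false
set_option linter.style.haveILetI false

namespace Cfsg.Agent.FischerClassEnd

open Cfsg Cfsg.Agent Cfsg.Agent.Fischer Cfsg.Agent.FischerTwins Cfsg.Agent.FischerClass Subgroup
open Cfsg.Agent.RigidGraph.He
open Cfsg.Agent.FischerSolvable.Model (tv tr mv mv_mul mv_one mv_tr mv_ext)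
open Cfsg.Agent.Fischer.LocalSymThree (nb nb_symm)

variable {G : Type*} [Group G] {D : Set G} {B : FischerTwins.Base D} {k : ℕ} (F : FischerTwins.Frame B k)
variable (hH : FischerTwins.Hyp D) [Finite G] (h5 : ∀ p ∈ D, ∀ q ∈ nb D p, (Line D p q).ncard = 5)
variable (hall : ∀ d ∈ D, F.IsPt (F.proj d) d)
variable (hnz : ∀ d ∈ D, F.proj d ≠ 0)
variable (hiso : ∀ d ∈ D, hf k (F.proj d) (F.proj d) = 0)
include hH h5 hall hnz hiso

/-- The group is a projective unitary group. -/
theorem equiv_kind (hne : D.Nonempty) : IsUn D k := by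
  classical
  have hn : 0 < k := lt_of_lt_of_le (by norm_num) F.hk
  have hiso' : ∀ (A : Cfsg.SU k K4 2) (x : Fin k → K4), hf k x x = 0 → hf k (mv A x) (mv A x) = 0 :=
    fun A x hx => (A.2 x x).trans hx
  have hmv0 : ∀ (A : Cfsg.SU k K4 2), mv A (0 : Fin k → K4) = 0 := fun A => Matrix.mulVec_zero _
  have hne' : ∀ (A : Cfsg.SU k K4 2) (x : Fin k → K4), x ≠ 0 → mv A x ≠ 0 := fun A x hx e => hx <| by
    rw [← mv_one x, ← inv_mul_cancel A, mv_mul, e, hmv0]
  have hpar : ∀ (A : Cfsg.SU k K4 2) (x y : Fin k → K4), Par x y → Par (mv A x) (mv A y) := by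
    rintro A x y ⟨c, hc, rfl⟩
    exact ⟨c, hc, Matrix.mulVec_smul _ c x⟩
  have hspec : ∀ (A : Cfsg.SU k K4 2), ∀ d ∈ D, F.IsPt (mv A (F.proj d)) (F.ptOf (mv A (F.proj d))) :=
    fun A d hd => F.ptOf_spec hH h5 (hne' A _ (hnz d hd)) (hiso' A _ (hiso d hd))
  have huniq : ∀ {p : Fin k → K4} {x d : G}, F.IsPt p x → d ∈ D → Par p (F.proj d) → x = d :=
    fun hx hd h => F.eq_of_par hH hall hx hd h
  letI iA : MulAction (Cfsg.SU k K4 2) D :=
    { smul := fun A d => ⟨F.ptOf (mv A (F.proj d)), (hspec A d d.2).mem⟩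
      one_smul := fun d => Subtype.ext <| huniq (hspec 1 d d.2) d.2 (by rw [mv_one]; exact Par.refl _)
      mul_smul := fun A A' d => Subtype.ext <| by
        have h1 := hspec A' d d.2
        have h2 := hspec A _ h1.mem
        refine huniq (hspec (A * A') d d.2) h2.mem ?_
        rw [mv_mul]
        exact (hpar A _ _ h1.vec).trans h2.vec }
  letI iG : MulAction G D :=
    { smul := fun g d => ⟨g * d * g⁻¹, hH.ctx.conj_mem g d.2⟩
      one_smul := fun d => Subtype.ext (show 1 * (d : G) * 1⁻¹ = d by simp)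
      mul_smul := fun g g' d => Subtype.ext
        (show g * g' * d * (g * g')⁻¹ = g * (g' * d * g'⁻¹) * g⁻¹ by group) }
  let ρ : Cfsg.SU k K4 2 →* Equiv.Perm D := MulAction.toPermHom _ _
  let c : G →* Equiv.Perm D := MulAction.toPermHom _ _
  have hc : Function.Injective c := by
    rw [injective_iff_map_eq_one]
    intro g hg
    have : g ∈ center G := mem_center_of_commute_gen hH.ctx.tg.2.2 fun d hd => by
      have e : g * d * g⁻¹ = d := congrArg (fun π : Equiv.Perm D => (π ⟨d, hd⟩ : G)) hg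
      exact mul_inv_eq_iff_eq_mul.1 e
    rwa [hH.cz, mem_bot] at this
  have key : ∀ {p : Fin k → K4} {x : G}, hf k p p = 0 → F.IsPt p x → ρ (tr p) = c x := by
    intro p x hp hx
    refine Equiv.ext fun d => Subtype.ext ?_
    show F.ptOf (mv (tr p) (F.proj d)) = x * d * x⁻¹
    refine huniq (hspec (tr p) d d.2) (hH.ctx.conj_mem x d.2) ?_
    rw [mv_tr hn hp, TSet.inv hH.tset hx.mem]
    exact hx.conj d d.2
  have hrange : ∀ A, ρ A ∈ c.range := by
    intro A
    have hA := (su_closure (n := k) F.hk).ge (mem_top A)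
    induction hA using Subgroup.closure_induction with
    | mem A hA =>
      obtain ⟨v, hv0, hv, rfl⟩ := hA
      exact ⟨F.ptOf v, (key hv (F.ptOf_spec hH h5 hv0 hv)).symm⟩
    | one => rw [map_one]; exact one_mem _
    | mul x y _ _ hx hy => rw [map_mul]; exact mul_mem hx hy
    | inv x _ hx => rw [map_inv]; exact inv_mem hx
  let θ : Cfsg.SU k K4 2 →* G :=
    (MonoidHom.ofInjective hc).symm.toMonoidHom.comp (ρ.codRestrict c.range hrange)
  have hθ : ∀ A, c (θ A) = ρ A := fun A =>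
    congrArg Subtype.val ((MonoidHom.ofInjective hc).apply_symm_apply ⟨ρ A, hrange A⟩)
  have hsurj : Function.Surjective θ := by
    rw [← MonoidHom.range_eq_top, eq_top_iff, ← hH.ctx.tg.2.2, Subgroup.closure_le]
    intro d hd
    exact ⟨tr (F.proj d), hc (by rw [hθ, key (hiso d hd) (hall d hd)])⟩
  have hker : center (Cfsg.SU k K4 2) ≤ θ.ker := fun z hz => by
    have : θ z ∈ center G := mem_center_iff.2 fun g => by
      obtain ⟨A, rfl⟩ := hsurj g
      rw [← map_mul, ← map_mul, mem_center_iff.1 hz A]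
    rwa [hH.cz, mem_bot] at this
  haveI := FischerSolvable.isSimple_psu F.hk
  set f := QuotientGroup.lift _ θ hker with hf
  have hfs : Function.Surjective f := QuotientGroup.lift_surjective_of_surjective _ θ hsurj hker
  have hfi : Function.Injective f := by
    rw [← MonoidHom.ker_eq_bot_iff]
    refine ((MonoidHom.normal_ker f).eq_bot_or_eq_top).resolve_right fun htop => ?_
    obtain ⟨d, hd⟩ := hne
    obtain ⟨q, rfl⟩ := hfs d
    exact TSet.ne_one hH.tset hd (MonoidHom.mem_ker.1 (htop ▸ mem_top q))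
  have hval : ∀ A, f (QuotientGroup.mk A) = θ A := fun A => QuotientGroup.lift_mk' _ hker A
  refine ⟨(MulEquiv.ofBijective f ⟨hfi, hfs⟩).symm, Set.ext fun q => ⟨?_, ?_⟩⟩
  · rintro ⟨d, hd, rfl⟩
    refine ⟨tr (F.proj d), FischerO3.rank_tr_one hn (hiso d hd) (hnz d hd), ?_⟩
    apply hfi
    rw [hval]
    refine Eq.trans ?_ ((MulEquiv.ofBijective f ⟨hfi, hfs⟩).apply_symm_apply d).symm
    exact hc (by rw [hθ, key (hiso d hd) (hall d hd)])
  · rintro ⟨A, hA, rfl⟩
    obtain ⟨v, hv0, hv, rfl⟩ := FischerO3.exists_tr hn A hA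
    refine ⟨F.ptOf v, (F.ptOf_spec hH h5 hv0 hv).mem, ?_⟩
    apply hfi
    rw [hval]
    refine ((MulEquiv.ofBijective f ⟨hfi, hfs⟩).apply_symm_apply (F.ptOf v)).trans ?_
    exact (hc (by rw [hθ, key hv (F.ptOf_spec hH h5 hv0 hv)])).symm

omit F hH h5 hall hnz hiso in
theorem unit_kind [Finite G] (hH : FischerTwins.Hyp D)
    (h5 : ∀ p ∈ D, ∀ q ∈ nb D p, (Line D p q).ncard = 5) (hne : D.Nonempty) :
    ∃ n, 4 ≤ n ∧ IsUn D n := by
  classical
  obtain ⟨B⟩ := hH.exists_base h5 hne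
  set S : Set ℕ := {k | Nonempty (FischerTwins.Frame B k)} with hS
  have hbdd : BddAbove S := ⟨Nat.card G + 1, fun k ⟨F⟩ => F.le_card⟩
  have hmem : sSup S ∈ S := Nat.sSup_mem ⟨4, ⟨B.frame⟩⟩ hbdd
  obtain ⟨F⟩ := hmem
  have hnone : ∀ d ∈ D, hf (sSup S) (F.proj d) (F.proj d) = 0 := by
    intro d hd
    by_contra h
    have := le_csSup hbdd (F.exists_succ hH h5 hd h)
    omega
  exact ⟨_, F.hk, equiv_kind F hH h5 (F.all_points hH h5 hnone) (F.proj_ne_zero hH h5 hnone) hnone hne⟩

end Cfsg.Agent.FischerClassEnd
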