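import Cfsg.Agent.Lib.Fischer.OddCoreLocal
import Cfsg.Agent.Lib.FischerClass.Defs
import Cfsg.Agent.Lib.FischerClassEnd.SympKind
import Cfsg.Agent.Lib.FischerClassEnd.UnitKind
import Cfsg.Agent.Lib.FischerClass.Kind

/-!
The classes whose local two-core or three-core is not central.
-/

set_option autoImplicit false
set_option linter.style.haveILetI false

namespace Cfsg.Agent.FischerClassEnd

open Cfsg Cfsg.Agent Cfsg.Agent.Fischer Cfsg.Agent.FischerClass Subgroup
open Cfsg.Agent.Fischer.Factor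
open Cfsg.Agent.Fischer.LocalSymThree (nb)

variable {G : Type*} [Group G] {D : Set G}

/-- A non-central local two-core gives a symplectic or a unitary class. -/
theorem twins_kind [Finite G] (hS : Std D) {x : G} (hx : x ∈ D)
    (h : ¬ Cfsg.pCore 2 ↥(closure (Nb D x)) ≤ center _) :
    (∃ m, 2 ≤ m ∧ IsSp D m) ∨ (∃ n, 4 ≤ n ∧ IsUn D n) := by
  have hH := hS.twins hx h
  obtain ⟨a, ha⟩ := hH.res x hx
  rcases hH.ncard_line hx ha with h3 | h5
  · exact Or.inl (symp_kind hH (fun p hp q hq => (hH.ncard_line_eq hp hq hx ha).trans h3) hS.width)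
  · exact Or.inr (unit_kind hH (fun p hp q hq => (hH.ncard_line_eq hp hq hx ha).trans h5) ⟨x, hx⟩)

theorem odd_involution_five : ∀ σ : Equiv.Perm (Fin 5), σ * σ = 1 → Equiv.Perm.sign σ = -1 →
    ∃ i j : Fin 5, i ≠ j ∧ σ = Equiv.swap i j := by decide +kernel

/-- A conjugacy class of involutions generating the symmetric group of degree five consists of the transpositions. -/
theorem isSym_five (hT : IsThreeTranspositionGroup D) (htr : Trans D) (hne : D.Nonempty)
    (e : G ≃* Equiv.Perm (Fin 5)) : IsSym D 5 := by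
  classical
  have hconst : ∀ a ∈ D, ∀ b ∈ D, Equiv.Perm.sign (e a) = Equiv.Perm.sign (e b) := by
    intro a ha b hb
    obtain ⟨g, rfl⟩ := htr a ha b hb
    rw [map_mul, map_mul, map_inv, map_mul, map_mul, map_inv, mul_comm (Equiv.Perm.sign (e g)),
      mul_inv_cancel_right]
  obtain ⟨d, hd⟩ := hne
  have hodd : Equiv.Perm.sign (e d) = -1 := by
    refine (Int.units_eq_one_or _).resolve_left fun h1 => ?_
    have hle : (⊤ : Subgroup G) ≤ (Equiv.Perm.sign.comp e.toMonoidHom).ker := by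
      rw [← hT.2.2, closure_le]
      intro a ha
      exact (hconst a ha d hd).trans h1
    have := hle (mem_top (e.symm (Equiv.swap 0 1)))
    rw [MonoidHom.mem_ker] at this
    simp [Equiv.Perm.sign_swap'] at this
  have hswap : ∀ a ∈ D, (e a).IsSwap := by
    intro a ha
    refine odd_involution_five _ ?_ ((hconst a ha d hd).trans hodd)
    rw [← map_mul, TSet.sq hT.1 ha, map_one]
  refine ⟨e, Set.ext fun σ => ⟨fun ⟨a, ha, h⟩ => h ▸ hswap a ha, fun hσ => ?_⟩⟩
  obtain ⟨i, j, hij, rfl⟩ := hσ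
  obtain ⟨k, l, hkl, he⟩ := hswap d hd
  obtain ⟨τ, hτ⟩ := isConj_iff.1 (Equiv.Perm.isConj_swap hkl hij)
  refine ⟨e.symm τ * d * (e.symm τ)⁻¹, hT.2.1 _ d hd, ?_⟩
  rw [map_mul, map_mul, map_inv, e.apply_symm_apply, he, hτ]

/-- A non-central local three-core gives the symmetric group of degree five. -/
theorem oddcore_kind [Finite G] (hS : Std D) {x : G} (hx : x ∈ D)
    (h : ¬ Cfsg.pCore 3 ↥(closure (Nb D x)) ≤ center _) : IsSym D 5 := by
  haveI : Fact (Nat.Prime 3) := ⟨Nat.prime_three⟩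
  haveI : Fact (Nat.Prime 2) := ⟨Nat.prime_two⟩
  have hC := hS.ctx
  have hle : Cfsg.pCore 3 ↥(closure (nb D x)) ≤ Cfsg.oddCore ↥(closure (nb D x)) := by
    haveI : (Cfsg.pCore 3 ↥(closure (nb D x))).Normal := Cfsg.pCore_normal 3 _
    refine le_sSup ⟨inferInstance, ?_⟩
    obtain ⟨k, hk⟩ := IsPGroup.iff_card.1 (PBasic.pCore_isPGroup 3 ↥(closure (nb D x)))
    rw [hk]
    exact Nat.Coprime.pow_left _ (by norm_num)
  have hW := hC.exists_W hx fun h' => h (hle.trans h')
  have hnc : ∀ d ∈ D, ∀ y ∈ nb D d, ∀ z ∈ nb D d, y ≠ z → ¬ Commute y z := fun d hd =>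
    hC.nb_noncommute hW hd
  obtain ⟨a₁, ha₁, b₁, hb₁, hab₁, hc₁⟩ := hS.width
  have hb : b₁ ∈ nb D a₁ := ⟨hb₁, hab₁.symm, hc₁⟩
  obtain ⟨b₂, hne, hW₁⟩ := hW a₁ ha₁ b₁ hb
  obtain ⟨hk, hμ⟩ := hC.params hnc ha₁ hb hW₁.2.1 hne.symm
  have H := hC.hyp hS.cz hk hμ hnc
  have e : ↥(closure D) ≃* G := (MulEquiv.subgroupCongr hS.tg.2.2).trans Subgroup.topEquiv
  rcases H.main ⟨x, hx⟩ with h5 | h33
  · obtain ⟨f⟩ := h5
    exact isSym_five hS.tg hS.trans ⟨x, hx⟩ (e.symm.trans f)
  · exfalso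
    obtain ⟨f⟩ := h33
    let π : G →* ℤˣ × ℤˣ :=
      ((Equiv.Perm.sign (α := Fin 3)).prodMap (Equiv.Perm.sign (α := Fin 3))).comp (e.symm.trans f).toMonoidHom
    have hs : Function.Surjective π := by
      rintro ⟨p, q⟩
      obtain ⟨σ, hσ⟩ := Equiv.Perm.sign_surjective (Fin 3) p
      obtain ⟨τ, hτ⟩ := Equiv.Perm.sign_surjective (Fin 3) q
      refine ⟨(e.symm.trans f).symm (σ, τ), ?_⟩
      show (Equiv.Perm.sign.prodMap Equiv.Perm.sign) ((e.symm.trans f) ((e.symm.trans f).symm (σ, τ))) = _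
      rw [MulEquiv.apply_symm_apply]
      exact Prod.ext hσ hτ
    have hle : (⊤ : Subgroup G) ≤ (Subgroup.zpowers (π x)).comap π := by
      rw [← hS.tg.2.2, closure_le]
      intro a ha
      obtain ⟨g, rfl⟩ := hS.trans x hx a ha
      refine mem_comap.2 ?_
      rw [map_mul, map_mul, map_inv, mul_comm (π g), mul_inv_cancel_right]
      exact mem_zpowers _
    have hall : ∀ p : ℤˣ × ℤˣ, p = 1 ∨ p = π x := by
      intro p
      obtain ⟨g, rfl⟩ := hs p
      have hg := mem_comap.1 (hle (mem_top g))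
      have h2 : π x * π x = 1 := by rw [← map_mul, TSet.sq hS.tset hx, map_one]
      obtain ⟨k, hk⟩ := mem_zpowers_iff.1 hg
      rw [← hk]
      rcases Int.even_or_odd' k with ⟨j, rfl | rfl⟩
      · exact Or.inl (by rw [zpow_mul, zpow_two, h2, one_zpow])
      · exact Or.inr (by rw [zpow_add_one, zpow_mul, zpow_two, h2, one_zpow, one_mul])
    have h1 := hall (-1, 1)
    have h2 := hall (1, -1)
    rcases h1 with h1 | h1
    · exact absurd (congrArg Prod.fst h1) (by decide)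
    rcases h2 with h2 | h2
    · exact absurd (congrArg Prod.snd h2) (by decide)
    exact absurd (congrArg Prod.fst (h1.trans h2.symm)) (by decide)

end Cfsg.Agent.FischerClassEnd
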