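import Cfsg.Agent.Lib.OrthTwo.SymEight
import Cfsg.Agent.Lib.Transvec.OrthTwo
import Cfsg.Agent.Lib.FischerClass.Model

/-!
The hyperbolic orthogonal group of dimension six over two elements with its transvections is the symmetric
group of degree eight with the transpositions.
-/

set_option autoImplicit false
set_option maxRecDepth 20000

namespace Cfsg.Agent.FischerClassEnd

open Cfsg Cfsg.Agent Cfsg.Agent.FischerClass
open Cfsg.Agent.SymEight (mat coordM equiv)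
open Matrix

theorem norm_one_pair : ∀ a : Fin 3 ⊕ Fin 3 → ZMod 2, quadFormPlus 3 (ZMod 2) a = 1 →
    ∃ i j : Fin 8, i ≠ j ∧ a = coordM *ᵥ (Pi.single i 1 + Pi.single j 1) := by
  unfold Cfsg.quadFormPlus
  decide +kernel

theorem pair_norm_one : ∀ i j : Fin 8, i ≠ j →
    quadFormPlus 3 (ZMod 2) (coordM *ᵥ (Pi.single i 1 + Pi.single j 1)) = 1 := by
  unfold Cfsg.quadFormPlus
  decide +kernel

theorem swap_col : ∀ i j : Fin 8, i ≠ j → ∀ k : Fin 3 ⊕ Fin 3,
    mat (Equiv.swap i j) *ᵥ Pi.single k 1 = Pi.single k 1 + QuadraticMap.polar (quadFormPlus 3 (ZMod 2))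
      (Pi.single k 1) (coordM *ᵥ (Pi.single i 1 + Pi.single j 1)) • (coordM *ᵥ (Pi.single i 1 + Pi.single j 1)) := by
  unfold Cfsg.quadFormPlus QuadraticMap.polar
  decide +kernel

/-- The hyperbolic group of dimension six is the symmetric group of degree eight. -/
theorem sym_eight {X : Type*} [Group X] {S : Set X}
    (h : ∃ e : X ≃* ↥(Cfsg.isometryGroup (ZMod 2) (Cfsg.quadFormPlus 3 (ZMod 2))), e '' S = {g : ↥(Cfsg.isometryGroup (ZMod 2) (Cfsg.quadFormPlus 3 (ZMod 2))) | (((g : GL (Fin 3 ⊕ Fin 3) (ZMod 2)) : Matrix (Fin 3 ⊕ Fin 3) (Fin 3 ⊕ Fin 3) (ZMod 2)) - 1).rank = 1}) :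
    IsSym S 8 := by
  obtain ⟨e, he⟩ := h
  have hQ : Geo.IsNondegenerateQuadraticForm (quadFormPlus 3 (ZMod 2)) := AutPOmega.geo_plus 3
  have key : ∀ i j : Fin 8, i ≠ j →
      ((equiv (Equiv.swap i j) : ↥(Cfsg.isometryGroup (ZMod 2) (Cfsg.quadFormPlus 3 (ZMod 2)))) :
        GL (Fin 3 ⊕ Fin 3) (ZMod 2)) =
      Transvec.OrthTwo.refl hQ (coordM *ᵥ (Pi.single i 1 + Pi.single j 1)) := by
    intro i j hij
    refine Units.ext (Matrix.ext_of_mulVec_single fun k => ?_)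
    have := Transvec.OrthTwo.mv_refl hQ (coordM *ᵥ (Pi.single i 1 + Pi.single j 1)) (Pi.single k 1)
    rw [Transvec.mv] at this
    rw [this]
    exact swap_col i j hij k
  refine ⟨e.trans equiv.symm, Set.ext fun σ => ⟨?_, ?_⟩⟩
  · rintro ⟨s, hs, rfl⟩
    have h1 : e s ∈ e '' S := ⟨s, hs, rfl⟩
    rw [he] at h1
    obtain ⟨a, ha, hg⟩ := (Transvec.OrthTwo.rank_refl hQ (e s).2).1 h1
    obtain ⟨i, j, hij, rfl⟩ := norm_one_pair a ha
    refine ⟨i, j, hij, ?_⟩
    show equiv.symm (e s) = _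
    rw [MulEquiv.symm_apply_eq]
    exact Subtype.ext (hg.trans (key i j hij).symm)
  · rintro ⟨i, j, hij, rfl⟩
    have h1 : equiv (Equiv.swap i j) ∈ e '' S := by
      rw [he]
      exact (Transvec.OrthTwo.rank_refl hQ (equiv (Equiv.swap i j)).2).2
        ⟨_, pair_norm_one i j hij, key i j hij⟩
    obtain ⟨s, hs, hse⟩ := h1
    exact ⟨s, hs, by show equiv.symm (e s) = _; rw [hse, MulEquiv.symm_apply_apply]⟩

end Cfsg.Agent.FischerClassEnd
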