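import Cfsg.Agent.Lib.FischerClass.Induction
import Cfsg.Agent.Lib.FischerClass.TwoCommon
import Cfsg.Agent.Lib.FischerClass.ExcludeM24
import Cfsg.Agent.Lib.FischerClassEnd.OddCore
import Cfsg.Agent.Lib.FischerClassEnd.SymEightKind
import Cfsg.Agent.Lib.FischerClassTy.StepM23
import Cfsg.Agent.Lib.FischerClassTy.TwentyTwo
import Cfsg.Agent.Lib.FischerClassTy.USix

/-!
Fischer's theorem: the facts used by the induction, from their separate proofs.
-/

set_option autoImplicit false

namespace Cfsg.Agent.FischerClassEnd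

open Cfsg Cfsg.Agent Cfsg.Agent.Fischer Cfsg.Agent.Fischer.Factor Cfsg.Agent.FischerClass

universe u

/-- The facts, given the two exclusions of unitary neighbourhoods. -/
theorem facts_of
    (u5 : ∀ {G : Type u} [Group G] [Finite G] {D : Set G}, Loc D → ∀ d ∈ D, IsUn (img D d) 5 → False)
    (ul : ∀ {G : Type u} [Group G] [Finite G] {D : Set G}, Loc D → ∀ d ∈ D, ∀ n : ℕ,
      7 ≤ n → IsUn (img D d) n → False) : Facts.{u} where
  twins := fun {_} _ _ {_} hS _ hx h => twins_kind hS hx h
  oddcore := fun {_} _ _ {_} hS _ hx h => oddcore_kind hS hx h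
  eight := fun {_} _ _ {_} h => sym_eight h
  two_common := fun {_} _ _ {_} hL hP _ hx _ hv h => FischerClass.two_common hL hP hx hv h
  u_five := u5
  u_six := fun {_} _ _ {_} hL _ hd h => FischerClassTy.u_six hL hd h
  u_large := ul
  m22 := fun {_} _ _ {_} hL d hd h => FischerClassTy.m22 hL d hd h
  m23 := FischerClassTy.m23
  m24 := FischerClassEx.m24

theorem kind_of_std (u5 : ∀ {G : Type u} [Group G] [Finite G] {D : Set G}, Loc D → ∀ d ∈ D, IsUn (img D d) 5 → False)
    (ul : ∀ {G : Type u} [Group G] [Finite G] {D : Set G}, Loc D → ∀ d ∈ D, ∀ n : ℕ,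
      7 ≤ n → IsUn (img D d) n → False)
    {G : Type u} [Group G] [Finite G] {D : Set G} (hS : Std D) : Kind D :=
  kind_of_facts (facts_of u5 ul) (Nat.card G) rfl hS

end Cfsg.Agent.FischerClassEnd
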