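import Cfsg.Agent.Lib.FischerO3.Recog
import Cfsg.Agent.Lib.Orthogonal.Matrix

/-!
The centre of a reflection group over three elements consists of scalars.
-/

set_option autoImplicit false

namespace Cfsg.Agent.FischerClassEnd

open Cfsg.Agent Cfsg.Agent.Fischer
open Cfsg.Agent.FischerO3 (ap ap_mul ap_pm PM pm_of_refl_eq)
open Matrix QuadraticMap

variable {n : ℕ} {Q : QuadraticForm (ZMod 3) (Fin n → ZMod 3)}

/-- A vector orthogonal to every anisotropic vector is zero. -/
theorem eq_zero_of_aniso (hQ : (QuadraticMap.polarBilin Q).Nondegenerate) {y : Fin n → ZMod 3}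
    (h : ∀ g, Q g ≠ 0 → polar (⇑Q) y g = 0) : y = 0 := by
  by_cases hy : Q y = 0
  · refine hQ.1 y fun w => ?_
    rw [QuadraticMap.polarBilin_apply_apply]
    by_cases hw : Q w = 0
    · by_contra hB
      have h1 := h (w + y) (by
        rw [QuadraticMap.map_add (⇑Q), hw, hy, zero_add, zero_add, polar_comm]; exact hB)
      rw [polar_add_right, polar_self, hy, smul_zero, add_zero] at h1
      exact hB h1
    · exact h w hw
  · exfalso
    have h1 := h y hy
    rw [polar_self, two_nsmul] at h1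
    exact (by decide : ∀ a : ZMod 3, a ≠ 0 → a + a ≠ 0) _ hy h1

/-- A vector orthogonal to every vector of one norm is zero. -/
theorem eq_zero_of_norm (hQ : (QuadraticMap.polarBilin Q).Nondegenerate) (hn : 5 ≤ n) {c : ZMod 3}
    (hc : c ≠ 0) {y : Fin n → ZMod 3} (h : ∀ v, Q v = c → polar (⇑Q) y v = 0) : y = 0 := by
  refine eq_zero_of_aniso hQ fun g hg => ?_
  by_cases hgc : Q g = c
  · exact h g hgc
  obtain ⟨u, hu, qu⟩ := Mod3.exists_value_perp hQ ![g] (by omega) (by intro i; fin_cases i; simpa using hg)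
    (by intro i j hij; fin_cases i; fin_cases j; simp at hij) hc
  have hgu : polar (⇑Q) g u = 0 := by simpa using hu 0
  obtain ⟨w, hw, qw⟩ := Mod3.exists_value_perp hQ ![g, u] (by omega)
    (by intro i; fin_cases i <;> simp [hg, qu, hc])
    (by intro i j hij; fin_cases i <;> fin_cases j <;> simp [hgu, polar_comm (⇑Q) u g] at hij ⊢) hc
  have hgw : polar (⇑Q) g w = 0 := by simpa using hw 0
  have huw : polar (⇑Q) u w = 0 := by simpa using hw 1
  have hs : Q (g + u + w) = c := by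
    rw [QuadraticMap.map_add (⇑Q), QuadraticMap.map_add (⇑Q), qu, qw, polar_add_left, hgu, hgw, huw]
    simp only [add_zero]
    exact (by decide : ∀ a c : ZMod 3, a ≠ 0 → c ≠ 0 → a ≠ c → a + c + c = c) _ _ hg hc hgc
  have h1 := h _ hs
  rwa [polar_add_right, polar_add_right, h u qu, h w qw, add_zero, add_zero] at h1

/-- Central elements of the reflection group are scalars. -/
theorem center_scalar (hQ : (QuadraticMap.polarBilin Q).Nondegenerate) (hn : 5 ≤ n) {c : ZMod 3}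
    (hc : c ≠ 0) {z : ↥(Cfsg.reflectionSubgroup (⇑Q) c)}
    (hz : z ∈ Subgroup.center ↥(Cfsg.reflectionSubgroup (⇑Q) c)) :
    ∃ a : ZMod 3, (a = 1 ∨ a = -1) ∧
      (((z : ↥(Cfsg.isometryGroup (ZMod 3) (⇑Q))) : GL (Fin n) (ZMod 3)) : Matrix (Fin n) (Fin n) (ZMod 3)) =
        a • 1 := by
  set Z : ↥(Cfsg.isometryGroup (ZMod 3) (⇑Q)) := z.1
  have hcomm : ∀ g ∈ Cfsg.reflectionSubgroup (⇑Q) c, g * Z = Z * g := fun g hg =>
    congrArg Subtype.val (Subgroup.mem_center_iff.1 hz ⟨g, hg⟩)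
  have hpm : ∀ {v} (hv : Q v = c), PM (ap Z v) v := fun {v} hv => by
    refine pm_of_refl_eq (hQ := hQ) (hc := hc) ((Z.2 v v).trans hv) hv ?_
    refine (Mod3.conj_refl hc Z hv).symm.trans ?_
    rw [← hcomm _ (Mod3.refl_mem hc hv), mul_inv_cancel_right]
  obtain ⟨u₀, hu₀⟩ := Mod3.exists_norm hQ (by omega) hc
  obtain ⟨a, ha, ha₀⟩ : ∃ a : ZMod 3, (a = 1 ∨ a = -1) ∧ ap Z u₀ = a • u₀ := by
    rcases hpm hu₀ with h | h
    · exact ⟨1, Or.inl rfl, by rw [h, one_smul]⟩
    · exact ⟨-1, Or.inr rfl, by rw [h, neg_smul, one_smul]⟩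
  have hall : ∀ v, Q v = c → ap Z v = a • v := by
    intro v hv
    obtain ⟨g, hg, hgv⟩ := Mod3.exists_conj hQ (by omega) hc hu₀ hv
    rw [Mod3.conj_refl] at hgv
    have h1 : ap Z (ap g u₀) = a • ap g u₀ := by
      rw [← ap_mul, ← hcomm g hg, ap_mul, ha₀]
      exact Matrix.mulVec_smul _ _ _
    rcases pm_of_refl_eq (hQ := hQ) (hc := hc) ((g.2 u₀ u₀).trans hu₀) hv hgv with h | h
    · rw [← h]; exact h1
    · have hv' : v = -ap g u₀ := by rw [show ap g u₀ = -v from h, neg_neg]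
      rw [hv', FischerO3.ap_neg, h1, smul_neg]
  refine ⟨a, ha, Matrix.ext_iff_mulVec.2 fun x => ?_⟩
  rw [Matrix.smul_mulVec, Matrix.one_mulVec]
  show ap Z x = a • x
  rw [← sub_eq_zero]
  refine eq_zero_of_norm hQ hn hc fun v hv => ?_
  have h1 : polar (⇑Q) (ap Z x) (ap Z v) = polar (⇑Q) x v := Mod3.polar_isometry Z x v
  rw [hall v hv, polar_smul_right] at h1
  rw [polar_sub_left, polar_smul_left, ← h1, smul_smul]
  rcases ha with rfl | rfl <;> simp

end Cfsg.Agent.FischerClassEnd
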