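import Cfsg.Agent.S5361
import Cfsg.Agent.Lib.Fischer.Dihedral
import Cfsg.Agent.Lib.FischerClass.Kind

/-!
Fischer's theorem from the classification of the primitive classes of width at least two.
-/

set_option autoImplicit false
set_option linter.style.haveILetI false

namespace Cfsg.Agent.FischerClassEnd

open Cfsg Cfsg.Agent Cfsg.Agent.Fischer Cfsg.Agent.FischerClass Subgroup

universe u

variable {G : Type u} [Group G] {D : Set G}

theorem three_involution : ∀ σ : Equiv.Perm (Fin 3), σ * σ = 1 → σ ≠ 1 →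
    ∃ i j : Fin 3, i ≠ j ∧ σ = Equiv.swap i j := by decide

/-- A class with at least two members and no commuting pair generating a group with simple derived group. -/
theorem width_one [Finite G] (hD : IsThreeTranspositionClass D) (hZ : center G = ⊥)
    (hsimple : IsSimpleGroup (commutator G))
    (hno : ¬ ∃ a ∈ D, ∃ b ∈ D, a ≠ b ∧ Commute a b) : IsSym D 3 := by
  classical
  haveI : Fact (Nat.Prime 3) := ⟨Nat.prime_three⟩
  have hT := TClass.toGroup hD
  push Not at hno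
  obtain ⟨d, hd⟩ : D.Nonempty := by
    rw [Set.nonempty_iff_ne_empty]
    intro he
    have htop : (⊤ : Subgroup G) = ⊥ := by rw [← hD.2.2, he, Subgroup.closure_empty]
    haveI := hsimple.toNontrivial
    obtain ⟨x, hx⟩ := exists_ne (1 : commutator G)
    exact hx (Subtype.ext (mem_bot.1 (htop ▸ mem_top (x : G))))
  obtain ⟨e, he, hde⟩ : ∃ e ∈ D, d ≠ e := by
    by_contra h
    push Not at h
    refine TSet.ne_one hD.1 hd (mem_bot.1 (hZ ▸ mem_center_of_commute_gen hT.2.2 fun e he => ?_ : d ∈ (⊥ : Subgroup G)))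
    rw [← h e he]
  obtain ⟨N, hN, hN3, hmem⟩ := braidSet.mul_mem_normal_three_group (fun a ha => TSet.sq hD.1 ha)
    (fun a ha b hb => by
      by_cases hab : a = b
      · rw [hab]
      · exact TSet.braid hD.1 ha hb (hno a ha b hb hab)) hT.2.1 hd he
  haveI := hN
  haveI := hsimple
  -- the product lies in the derived group
  have hprod : ∀ a ∈ D, d * a ∈ commutator G := by
    intro a ha
    obtain ⟨g, rfl⟩ := TClass.transitive hD d hd a ha
    have h1 : d * (g * d * g⁻¹) = d * g * d⁻¹ * g⁻¹ := by rw [TSet.inv hD.1 hd]; group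
    rw [h1, commutator_def]
    exact Subgroup.commutator_mem_commutator (Subgroup.mem_top _) (Subgroup.mem_top _)
  have hne1 : d * e ≠ 1 := fun h => hde (by
    rw [mul_eq_one_iff_eq_inv, TSet.inv hD.1 he] at h; exact h)
  have hGN : N.subgroupOf (commutator G) = ⊤ :=
    (inferInstance : (N.subgroupOf (commutator G)).Normal).eq_bot_or_eq_top.resolve_left fun h => by
      have hm : (⟨d * e, hprod e he⟩ : ↥(commutator G)) ∈ N.subgroupOf (commutator G) := mem_subgroupOf.2 hmem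
      rw [h, mem_bot] at hm
      exact hne1 (congrArg Subtype.val hm)
  have hle : commutator G ≤ N := subgroupOf_eq_top.1 hGN
  have hP : IsPGroup 3 ↥(commutator G) := hN3.to_le hle
  have hcz : center ↥(commutator G) = ⊤ := by
    haveI : Nontrivial ↥(commutator G) := hsimple.toNontrivial
    refine (inferInstance : (center ↥(commutator G)).Normal).eq_bot_or_eq_top.resolve_left ?_
    haveI := hP.center_nontrivial
    exact (Subgroup.nontrivial_iff_ne_bot _).1 inferInstance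
  have hthree : Nat.card ↥(commutator G) = 3 := by
    letI : CommGroup ↥(commutator G) :=
      { (inferInstance : Group ↥(commutator G)) with
        mul_comm := fun x y => mem_center_iff.1 (hcz ▸ mem_top y) x }
    have hp := IsSimpleGroup.prime_card (α := ↥(commutator G))
    obtain ⟨k, hk⟩ := IsPGroup.iff_card.1 hP
    rw [hk] at hp ⊢
    rw [Nat.Prime.eq_one_of_pow hp]
    rfl
  -- the members are few
  have hcardD : D.ncard ≤ 3 := by
    rw [← hthree, ← Set.ncard_image_of_injective D (mul_right_injective d), ← Nat.card_coe_set_eq]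
    exact Set.ncard_le_ncard (fun x ⟨a, ha, h⟩ => h ▸ hprod a ha) (Set.toFinite _)
  have hnc := hno d hd e he hde
  have hc : d * e * d ∈ D := by
    have := hT.2.1 d e he
    rwa [TSet.inv hD.1 hd] at this
  have h1 : d * e * d ≠ d := by
    intro h
    refine hde ?_
    have : d * e * d = d * d * d := by rw [h, TSet.sq hD.1 hd, one_mul]
    exact (mul_left_cancel (mul_right_cancel this)).symm
  have h2 : d * e * d ≠ e := fun h => hnc (by
    show d * e = e * d
    calc d * e = d * e * d * d := by rw [mul_assoc (d * e), TSet.sq hD.1 hd, mul_one]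
      _ = e * d := by rw [h])
  have hset : ({d, e, d * e * d} : Set G) = D := by
    refine Set.eq_of_subset_of_ncard_le ?_ ?_ (Set.toFinite _)
    · rintro y (rfl | rfl | rfl) <;> assumption
    · rwa [Set.ncard_eq_three.2 ⟨d, e, _, hde, h1.symm, h2.symm, rfl⟩]
  have hgen : closure ({d, e} : Set G) = ⊤ := by
    rw [eq_top_iff, ← hT.2.2, closure_le]
    have ha : d ∈ closure ({d, e} : Set G) := subset_closure (Or.inl rfl)
    have hb : e ∈ closure ({d, e} : Set G) := subset_closure (Or.inr rfl)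
    intro y hy
    rw [← hset] at hy
    rcases hy with rfl | rfl | rfl
    exacts [ha, hb, mul_mem (mul_mem ha hb) ha]
  obtain ⟨f⟩ := nonempty_mulEquiv_perm_three (hD.1.1 d hd) (hD.1.1 e he)
    (TSet.orderOf_mul_eq_three hD.1 hd he hnc)
  let E : G ≃* Equiv.Perm (Fin 3) :=
    ((MulEquiv.subgroupCongr hgen).trans Subgroup.topEquiv).symm.trans f
  have hsw : ∀ a ∈ D, (E a).IsSwap := fun a ha =>
    three_involution _ (by rw [← map_mul, TSet.sq hD.1 ha, map_one])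
      fun h => TSet.ne_one hD.1 ha (E.injective (h.trans (map_one E).symm))
  refine ⟨E, Set.ext fun σ => ⟨fun ⟨a, ha, h⟩ => h ▸ hsw a ha, fun hσ => ?_⟩⟩
  obtain ⟨i, j, hij, rfl⟩ := hσ
  obtain ⟨k, l, hkl, hE⟩ := hsw d hd
  obtain ⟨τ, hτ⟩ := isConj_iff.1 (Equiv.Perm.isConj_swap hkl hij)
  refine ⟨E.symm τ * d * (E.symm τ)⁻¹, hT.2.1 _ d hd, ?_⟩
  rw [map_mul, map_mul, map_inv, E.apply_symm_apply, hE, hτ]

/-- A class of width at least two with simple derived group satisfies the hypotheses. -/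
theorem std_of [Finite G] (hD : IsThreeTranspositionClass D) (hZ : center G = ⊥)
    (hsimple : IsSimpleGroup (commutator G)) (hw : ∃ a ∈ D, ∃ b ∈ D, a ≠ b ∧ Commute a b) : Std D :=
  ⟨TClass.toGroup hD, ((S5361.result hD hZ hw).1).1 hsimple, hZ, hw⟩

/-- Fischer's theorem from the classification of the primitive classes. -/
theorem fischer [Finite G] (hK : ∀ D : Set G, Std D → Kind D) (hD : IsThreeTranspositionClass D)
    (hZ : center G = ⊥) (hsimple : IsSimpleGroup (commutator G)) :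
    (∃ n : ℕ, ∃ e : G ≃* Equiv.Perm (Fin n), e '' D = {σ : Equiv.Perm (Fin n) | σ.IsSwap}) ∨ (∃ m : ℕ, ∃ e : G ≃* Matrix.symplecticGroup (Fin m) (ZMod 2), e '' D = {g : Matrix.symplecticGroup (Fin m) (ZMod 2) | ((g : Matrix (Fin m ⊕ Fin m) (Fin m ⊕ Fin m) (ZMod 2)) - 1).rank = 1}) ∨ (∃ (n : ℕ) (F : Type) (_ : Field F) (_ : Fintype F), Fintype.card F = 4 ∧ ∃ e : G ≃* Cfsg.PSU n F 2, e '' D = (QuotientGroup.mk : ↥(Cfsg.SU n F 2) → Cfsg.PSU n F 2) '' {g : ↥(Cfsg.SU n F 2) | (((g : Matrix.SpecialLinearGroup (Fin n) F) : Matrix (Fin n) (Fin n) F) - 1).rank = 1}) ∨ ((∃ m : ℕ, ∃ e : G ≃* ↥(Cfsg.isometryGroup (ZMod 2) (Cfsg.quadFormPlus m (ZMod 2))), e '' D = {g : ↥(Cfsg.isometryGroup (ZMod 2) (Cfsg.quadFormPlus m (ZMod 2))) | (((g : GL (Fin m ⊕ Fin m) (ZMod 2)) : Matrix (Fin m ⊕ Fin m) (Fin m ⊕ Fin m) (ZMod 2)) - 1).rank = 1}) ∨ (∃ m : ℕ, ∃ e : G ≃* ↥(Cfsg.isometryGroup (ZMod 2) (Cfsg.quadFormMinus m (ZMod 2) 1 1)), e '' D = {g : ↥(Cfsg.isometryGroup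 (ZMod 2) (Cfsg.quadFormMinus m (ZMod 2) 1 1)) | (((g : GL ((Fin m ⊕ Fin m) ⊕ Fin 2) (ZMod 2)) : Matrix ((Fin m ⊕ Fin m) ⊕ Fin 2) ((Fin m ⊕ Fin m) ⊕ Fin 2) (ZMod 2)) - 1).rank = 1})) ∨ (∃ n : ℕ, ∃ Q : QuadraticForm (ZMod 3) (Fin n → ZMod 3), (QuadraticMap.polarBilin Q).Nondegenerate ∧ ∃ c : ZMod 3, c ≠ 0 ∧ ∃ e : G ≃* ↥(Cfsg.reflectionSubgroup (⇑Q) c) ⧸ Subgroup.center ↥(Cfsg.reflectionSubgroup (⇑Q) c), e '' D = (QuotientGroup.mk : ↥(Cfsg.reflectionSubgroup (⇑Q) c) → _) '' {g : ↥(Cfsg.reflectionSubgroup (⇑Q) c) | (g : ↥(Cfsg.isometryGroup (ZMod 3) (⇑Q))) ∈ Cfsg.reflectionsOfNorm (⇑Q) c}) ∨ (Cfsg.IsOfTypeM22 G D ∨ Cfsg.IsOfTypeM23 G D ∨ Cfsg.IsOfTypeM24 G D) := by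
  by_cases hw : ∃ a ∈ D, ∃ b ∈ D, a ≠ b ∧ Commute a b
  swap
  · exact Or.inl ⟨3, width_one hD hZ hsimple hw⟩
  rcases hK D (std_of hD hZ hsimple hw) with ⟨m, -, h⟩ | ⟨n, -, h⟩ | h | h
  · exact Or.inr (Or.inl ⟨m, h⟩)
  · exact Or.inr (Or.inr (Or.inl ⟨n, RigidGraph.He.K4, inferInstance, inferInstance,
      RigidGraph.He.K4.card_K4, h⟩))
  · exact Or.inl ⟨5, h⟩
  rcases h with ⟨n, -, h⟩ | h | ⟨n, -, h⟩ | h
  · exact Or.inl ⟨n, h⟩
  · exact Or.inr (Or.inr (Or.inr (Or.inl (h.imp (fun ⟨m, _, h⟩ => ⟨m, h⟩) fun ⟨m, _, h⟩ => ⟨m, h⟩))))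
  · exact Or.inr (Or.inr (Or.inr (Or.inr (Or.inl ⟨n, h⟩))))
  · exact Or.inr (Or.inr (Or.inr (Or.inr (Or.inr h))))

end Cfsg.Agent.FischerClassEnd
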