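import Cfsg.Agent.Lib.LinearBlock.OrthTypeElem
import Cfsg.Agent.Lib.Orthogonal.Matrix
import Cfsg.Agent.Lib.Orthogonal.Counts

/-!
Non-degenerate forms of odd dimension over three elements have the isometry group of the standard form.
-/

set_option autoImplicit false

namespace Cfsg.Agent.FischerClassEnd

open Cfsg.Agent QuadraticMap Matrix

variable {F : Type*} [Field F]

/-- A linear equivalence carrying one quadratic function to a multiple of the other identifies the isometry
groups. -/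
theorem isometry_transport {ι κ : Type} [Fintype ι] [DecidableEq ι] [Fintype κ] [DecidableEq κ]
    (Q : (ι → F) → F) (Q' : (κ → F) → F) (Ψ : (ι → F) ≃ₗ[F] (κ → F)) {t : F} (ht : t ≠ 0)
    (h : ∀ x, Q' (Ψ x) = t * Q x) :
    Nonempty (↥(Cfsg.isometryGroup F Q) ≃* ↥(Cfsg.isometryGroup F Q')) := by
  let cj : ((ι → F) ≃ₗ[F] (ι → F)) ≃* ((κ → F) ≃ₗ[F] (κ → F)) :=
    { toFun := fun g => Ψ.symm.trans (g.trans Ψ)
      invFun := fun g => Ψ.trans (g.trans Ψ.symm)
      left_inv := fun g => LinearEquiv.ext fun x => by simp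
      right_inv := fun g => LinearEquiv.ext fun x => by simp
      map_mul' := fun a b => LinearEquiv.ext fun x => by simp }
  let f : GL ι F ≃* GL κ F := ((Orth.glEquiv ι F).trans cj).trans (Orth.glEquiv κ F).symm
  have hf : ∀ g x, ((f g : GL κ F) : Matrix κ κ F) *ᵥ (Ψ x) = Ψ ((g : Matrix ι ι F) *ᵥ x) := fun g x => by
    rw [← Orth.glEquiv_apply, ← Orth.glEquiv_apply]
    simp [f, cj]
  refine ⟨(f.subgroupMap (Cfsg.isometryGroup F Q)).trans (MulEquiv.subgroupCongr ?_)⟩
  ext g
  obtain ⟨k, rfl⟩ := f.surjective g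
  show f k ∈ (Cfsg.isometryGroup F Q).map f.toMonoidHom ↔ _
  rw [Subgroup.mem_map_equiv, MulEquiv.symm_apply_apply, Orth.mem_isometryGroup, Orth.mem_isometryGroup]
  constructor
  · intro hk y
    obtain ⟨x, rfl⟩ := Ψ.surjective y
    rw [hf, h, h, hk]
  · intro hk x
    have := hk (Ψ x)
    rw [hf, h, h] at this
    exact mul_left_cancel₀ ht this

/-- The isometry group in odd dimension over three elements. -/
theorem odd_form {n m : ℕ} (hn : n = 2 * m + 1) (Q : QuadraticForm (ZMod 3) (Fin n → ZMod 3))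
    (hQ : (QuadraticMap.polarBilin Q).Nondegenerate) :
    Nonempty (↥(Cfsg.isometryGroup (ZMod 3) (⇑Q)) ≃*
      ↥(Cfsg.isometryGroup (ZMod 3) (Cfsg.quadFormOdd m (ZMod 3)))) := by
  classical
  obtain ⟨σ⟩ : Nonempty (Fin n ≃ Unit ⊕ (Fin m ⊕ Fin m)) :=
    ⟨(Fintype.equivFinOfCardEq (by simp; omega)).symm⟩
  let r : ((Unit ⊕ (Fin m ⊕ Fin m)) → ZMod 3) ≃ₗ[ZMod 3] (Fin n → ZMod 3) :=
    LinearEquiv.funCongrLeft (ZMod 3) (ZMod 3) σ
  set Q₁ : QuadraticForm (ZMod 3) ((Unit ⊕ (Fin m ⊕ Fin m)) → ZMod 3) := Q.comp r.toLinearMap with hQ₁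
  have hQ₁v : ∀ x, Q₁ x = Q (r x) := fun x => rfl
  have hp : ∀ x y, polar (⇑Q₁) x y = polar (⇑Q) (r x) (r y) := fun x y => by
    simp only [polar, hQ₁v, map_add]
  have h₁ : (polarBilin Q₁).Nondegenerate := by
    constructor <;> intro x hx <;> refine r.injective ((?_ : r x = 0).trans r.map_zero.symm)
    · refine hQ.1 _ fun y => ?_
      obtain ⟨y, rfl⟩ := r.surjective y
      rw [polarBilin_apply_apply, ← hp]
      exact hx y
    · refine hQ.2 _ fun y => ?_
      obtain ⟨y, rfl⟩ := r.surjective y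
      rw [polarBilin_apply_apply, ← hp]
      exact hx y
  have h₂ := Orth.qOdd_nondeg (F := ZMod 3) (by decide) m
  have hneg : polarBilin (-Q₁) = -polarBilin Q₁ := LinearMap.ext fun x => LinearMap.ext fun y => by
    simp [polar_neg]
  have h₁' : (polarBilin (-Q₁)).Nondegenerate := by
    rw [hneg]
    constructor <;> intro x hx
    · exact h₁.1 x fun y => by simpa using hx y
    · exact h₁.2 x fun y => by simpa using hx y
  set M := LinearMap.toMatrix₂' (ZMod 3) (polarBilin Q₁)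
  set M₂ := LinearMap.toMatrix₂' (ZMod 3) (polarBilin (Orth.qOdd (ZMod 3) m))
  have hM : (LinearMap.toMatrix₂' (ZMod 3) (polarBilin (-Q₁))).det = -M.det := by
    rw [hneg, show LinearMap.toMatrix₂' (ZMod 3) (-polarBilin Q₁) = -M from
      Matrix.ext fun i j => by simp [M, LinearMap.toMatrix₂'_apply], Matrix.det_neg]
    have hodd : Odd (Fintype.card (Unit ⊕ (Fin m ⊕ Fin m))) := ⟨m, by simp; omega⟩
    rw [hodd.neg_one_pow, neg_one_mul]
  rcases (by decide : ∀ a b : ZMod 3, IsSquare (a * b) ∨ IsSquare (-a * b)) M.det M₂.det with hs | hs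
  · obtain ⟨g, hg⟩ := LBType.exists_isometry (by decide) h₁ h₂ hs
    refine isometry_transport _ _ (r.symm.trans g) one_ne_zero fun x => ?_
    rw [one_mul, ← Orth.coe_qOdd, LinearEquiv.trans_apply, hg, hQ₁v, LinearEquiv.apply_symm_apply]
  · rw [← hM] at hs
    obtain ⟨g, hg⟩ := LBType.exists_isometry (by decide) h₁' h₂ hs
    refine isometry_transport _ _ (r.symm.trans g) (t := -1) (by decide) fun x => ?_
    rw [← Orth.coe_qOdd, LinearEquiv.trans_apply, hg, _root_.neg_apply, hQ₁v, LinearEquiv.apply_symm_apply,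
      neg_one_mul]

end Cfsg.Agent.FischerClassEnd
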