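import Cfsg.Agent.Lib.FischerClassEnd.Center
import Cfsg.Agent.Lib.FischerClassEnd.OddForm
import Cfsg.Agent.Lib.FischerClassEnd.Fischer
import Cfsg.Agent.Lib.Transvec.OrthParity
import Cfsg.Agent.Lib.FischerClass.Model
import Cfsg.Agent.Lib.FischerUnique23.Unique
import Cfsg.Agent.Lib.FischerUnique.Unique
import Cfsg.Agent.S5359
import Cfsg.Agent.S5360
import Cfsg.Agent.S5375

/-!
The simple groups among the groups of Fischer's theorem.
-/

set_option autoImplicit false
set_option linter.style.haveILetI false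

namespace Cfsg.Agent.FischerClassEnd

open Cfsg Cfsg.Agent Cfsg.Agent.Fischer Cfsg.Agent.FischerClass

universe u

variable {G : Type u} [Group G] {D : Set G}

/-- A non-abelian simple group has no non-trivial homomorphism to a commutative group. -/
theorem hom_trivial [IsSimpleGroup G] (hna : ∃ x y : G, x * y ≠ y * x) {A : Type*} [CommGroup A] (φ : G →* A)
    (g : G) : φ g = 1 := by
  rcases (inferInstance : φ.ker.Normal).eq_bot_or_eq_top with h | h
  · obtain ⟨x, y, hxy⟩ := hna
    exact absurd ((MonoidHom.ker_eq_bot_iff φ).1 h (by rw [map_mul, map_mul, mul_comm])) hxy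
  · exact MonoidHom.mem_ker.1 (h ▸ Subgroup.mem_top g)

theorem not_sym [IsSimpleGroup G] (hna : ∃ x y : G, x * y ≠ y * x) (hne : D.Nonempty) {n : ℕ}
    (h : IsSym D n) : False := by
  obtain ⟨e, he⟩ := h
  obtain ⟨d, hd⟩ := hne
  obtain ⟨i, j, hij, hs⟩ := he.le ⟨d, hd, rfl⟩
  have := hom_trivial hna (Equiv.Perm.sign.comp e.toMonoidHom) d
  rw [MonoidHom.comp_apply, MulEquiv.coe_toMonoidHom, hs, Equiv.Perm.sign_swap hij] at this
  exact absurd this (by decide)

open Transvec Transvec.Orth in
theorem not_orth_two [IsSimpleGroup G] (hna : ∃ x y : G, x * y ≠ y * x) (hne : D.Nonempty) {ι : Type}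
    [Fintype ι] [DecidableEq ι] {Q : (ι → ZMod 2) → ZMod 2} (hQ : Geo.IsNondegenerateQuadraticForm Q)
    (hn : 5 ≤ Fintype.card ι) (e : G ≃* ↥(isometryGroup (ZMod 2) Q))
    (he : e '' D = {g : ↥(isometryGroup (ZMod 2) Q) |
      (((g : GL ι (ZMod 2)) : Matrix ι ι (ZMod 2)) - 1).rank = 1}) : False := by
  classical
  let φ : G →* ℤˣ := MonoidHom.mk' (fun g => if Even (moveRank ((e g).1)) then 1 else -1) fun a b => by
    rw [map_mul, Subgroup.coe_mul]
    simp only [even_moveRank_mul hQ hn (e a).2 (e b).2]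
    by_cases h1 : Even (moveRank (e a).1) <;> by_cases h2 : Even (moveRank (e b).1) <;> simp [h1, h2]
  obtain ⟨d, hd⟩ := hne
  have h1 : (((e d : GL ι (ZMod 2)) : Matrix ι ι (ZMod 2)) - 1).rank = 1 := he.le ⟨d, hd, rfl⟩
  have h2 := hom_trivial hna φ d
  change (if Even (moveRank ((e d).1)) then (1 : ℤˣ) else -1) = 1 at h2
  rw [moveRank_eq_rank, h1, if_neg (by decide)] at h2
  exact absurd h2 (by decide)

/-- Transport of the commutator subgroup. -/
theorem commutator_iso {A B : Type*} [Group A] [Group B] (E : A ≃* B) :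
    Nonempty (↥(commutator A) ≃* ↥(commutator B)) := by
  refine ⟨(E.subgroupMap _).trans (MulEquiv.subgroupCongr ?_)⟩
  rw [commutator_def, commutator_def, Subgroup.map_commutator,
    Subgroup.map_top_of_surjective (E : A →* B) E.surjective]

theorem comm_of_card_le_four {A : Type*} [Group A] [Finite A] (h : Nat.card A ≤ 4) (a b : A) :
    a * b = b * a := by
  have hpos := Nat.card_pos (α := A)
  rcases (by omega : Nat.card A = 1 ∨ Nat.card A = 2 ∨ Nat.card A = 3 ∨ Nat.card A = 4) with h1 | h1 | h1 | h1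
  · haveI := (Nat.card_eq_one_iff_unique.1 h1).1
    exact Subsingleton.elim _ _
  · haveI := isCyclic_of_prime_card (hp := ⟨Nat.prime_two⟩) h1
    exact (IsCyclic.commGroup (α := A)).mul_comm a b
  · haveI := isCyclic_of_prime_card (hp := ⟨Nat.prime_three⟩) h1
    exact (IsCyclic.commGroup (α := A)).mul_comm a b
  · haveI : Fact (Nat.Prime 2) := ⟨Nat.prime_two⟩
    haveI := IsPGroup.isMulCommutative_of_card_eq_prime_sq (p := 2) (G := A) (by rw [h1]; norm_num)
    exact mul_comm' a b

/-- A simple projective reflection group over three elements is an orthogonal group of odd dimension. -/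
theorem othree_simple [Finite G] [IsSimpleGroup G] (hna : ∃ x y : G, x * y ≠ y * x) (hne : D.Nonempty)
    {n : ℕ} (hn : 5 ≤ n) (h : IsOThree D n) :
    ∃ m : ℕ, Nonempty (G ≃* Cfsg.POmega (ZMod 3) (Cfsg.quadFormOdd m (ZMod 3))) := by
  classical
  obtain ⟨Q, hQ, c, hc, e, he⟩ := h
  set O := ↥(Cfsg.isometryGroup (ZMod 3) (⇑Q)) with hO
  set R := Cfsg.reflectionSubgroup (⇑Q) c with hR
  set Z := Subgroup.center ↥R with hZ
  let detH : ↥R →* (ZMod 3)ˣ :=
    (Matrix.GeneralLinearGroup.det.comp (Cfsg.isometryGroup (ZMod 3) (⇑Q)).subtype).comp R.subtype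
  have hdet : ∀ r : ↥R, ((detH r : (ZMod 3)ˣ) : ZMod 3) =
      ((((r : O) : GL (Fin n) (ZMod 3))) : Matrix (Fin n) (Fin n) (ZMod 3)).det := fun r => rfl
  obtain ⟨v, hv⟩ := Mod3.exists_norm hQ (by omega) hc
  set r₀ : ↥R := ⟨Mod3.refl hc v hv, Mod3.refl_mem hc hv⟩ with hr₀
  have hdr : detH r₀ = -1 := by
    refine Units.ext ?_
    rw [hdet]
    exact Orth.det_reflectionMatrix Q (hv ▸ hc)
  -- a central element of determinant minus one
  obtain ⟨z, hzZ, hzd⟩ : ∃ z ∈ Z, detH z ≠ 1 := by
    by_contra hno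
    push Not at hno
    have h1 := hom_trivial hna ((QuotientGroup.lift Z detH fun z hz => MonoidHom.mem_ker.2 (hno z hz)).comp e.toMonoidHom)
      (e.symm (QuotientGroup.mk r₀))
    rw [MonoidHom.comp_apply, MulEquiv.coe_toMonoidHom, MulEquiv.apply_symm_apply] at h1
    change detH r₀ = 1 at h1
    rw [hdr] at h1
    exact absurd h1 (by decide)
  obtain ⟨a, ha, hza⟩ := center_scalar hQ hn hc hzZ
  have hodd : Odd n := by
    rcases ha with rfl | rfl
    · refine absurd (Units.ext ?_) hzd
      rw [hdet, hza, one_smul, Matrix.det_one]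
      rfl
    · rw [← Nat.not_even_iff_odd]
      intro hev
      refine hzd (Units.ext ?_)
      rw [hdet, hza, Matrix.det_smul, Matrix.det_one, Fintype.card_fin, hev.neg_one_pow, one_mul]
      rfl
  obtain ⟨m, hm⟩ := hodd
  -- the derived group maps isomorphically
  let π : ↥R →* G := e.symm.toMonoidHom.comp (QuotientGroup.mk' Z)
  have hπ : Function.Surjective π := e.symm.surjective.comp (QuotientGroup.mk'_surjective Z)
  have hperf : commutator G = ⊤ :=
    ((inferInstance : (commutator G).Normal).eq_bot_or_eq_top).resolve_left fun hb => by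
      obtain ⟨x, y, hxy⟩ := hna
      have hm' : x * y * x⁻¹ * y⁻¹ ∈ commutator G := by
        rw [commutator_def]
        exact Subgroup.commutator_mem_commutator (Subgroup.mem_top _) (Subgroup.mem_top _)
      rw [hb, Subgroup.mem_bot, mul_inv_eq_one, mul_inv_eq_iff_eq_mul] at hm'
      exact hxy hm'
  let π' : ↥(commutator ↥R) →* G := π.comp (commutator ↥R).subtype
  have hπs : Function.Surjective π' := by
    intro g
    have hg : g ∈ (commutator ↥R).map π := by
      rw [commutator_def, Subgroup.map_commutator, Subgroup.map_top_of_surjective π hπ, ← commutator_def, hperf]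
      exact Subgroup.mem_top g
    obtain ⟨r, hr, rfl⟩ := hg
    exact ⟨⟨r, hr⟩, rfl⟩
  have hπi : Function.Injective π' := by
    rw [injective_iff_map_eq_one]
    rintro ⟨r, hr⟩ h1
    have h2 : (QuotientGroup.mk r : ↥R ⧸ Z) = 1 := e.symm.injective (h1.trans (map_one e.symm).symm)
    rw [QuotientGroup.eq_one_iff] at h2
    obtain ⟨b, hb, hrb⟩ := center_scalar hQ hn hc h2
    have hd1 : detH r = 1 := by
      have hle : commutator ↥R ≤ detH.ker := Abelianization.commutator_subset_ker detH
      exact MonoidHom.mem_ker.1 (hle hr)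
    rcases hb with rfl | rfl
    · exact Subtype.ext (Subtype.ext (Subtype.ext (Units.ext (hrb.trans (one_smul _ _)))))
    · exfalso
      have h3 := congrArg Units.val hd1
      rw [hdet, hrb, Matrix.det_smul, Matrix.det_one, Fintype.card_fin,
        (show Odd n from ⟨m, hm⟩).neg_one_pow, mul_one] at h3
      exact absurd h3 (by decide)
  -- the derived group is the commutator subgroup of the isometry group
  set K : Subgroup O := (commutator ↥R).map R.subtype with hK
  have hKle : K ≤ commutator O := by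
    rw [hK, commutator_def, Subgroup.map_commutator, commutator_def]
    exact Subgroup.commutator_mono le_top le_top
  have hidxR : R.index = 2 := S5359.result n hn ⟨m, hm⟩ Q hQ c hc
  haveI : R.Normal := Subgroup.normal_of_index_eq_two hidxR
  haveI : K.Normal := by rw [hK]; infer_instance
  have hKR : K.relIndex R ≤ 2 := by
    rw [hK]
    show (((commutator ↥R).map R.subtype).subgroupOf R).index ≤ 2
    rw [Subgroup.subgroupOf, Subgroup.comap_map_eq_self_of_injective R.subtype_injective]
    exact (S5360.result n hn Q hQ c hc).2.1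
  have hidx : K.index ≤ 4 := by
    rw [← Subgroup.relIndex_mul_index (show K ≤ R from Subgroup.map_subtype_le _), hidxR]
    omega
  have hle : commutator O ≤ K := by
    rw [commutator_def, Subgroup.commutator_le]
    intro x _ y _
    rw [← QuotientGroup.eq_one_iff]
    haveI : Finite (O ⧸ K) := inferInstance
    have hc4 := comm_of_card_le_four (A := O ⧸ K) hidx
    show (QuotientGroup.mk' K) (x * y * x⁻¹ * y⁻¹) = 1
    simp only [map_mul]
    rw [hc4 ((QuotientGroup.mk' K) x), mul_assoc ((QuotientGroup.mk' K) y), ← map_mul, ← map_mul (QuotientGroup.mk' K) y,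
      mul_inv_cancel, mul_one, ← map_mul, mul_inv_cancel, map_one]
  have hKeq : K = commutator O := le_antisymm hKle hle
  let f₁ : G ≃* ↥(commutator O) :=
    ((MulEquiv.ofBijective π' ⟨hπi, hπs⟩).symm.trans
      ((commutator ↥R).equivMapOfInjective R.subtype R.subtype_injective)).trans
      (MulEquiv.subgroupCongr hKeq)
  obtain ⟨E⟩ := odd_form hm Q hQ
  obtain ⟨E'⟩ := commutator_iso E
  let f₂ : G ≃* ↥(Cfsg.Omega (ZMod 3) (Cfsg.quadFormOdd m (ZMod 3))) := f₁.trans E'
  have hcen : Subgroup.center ↥(Cfsg.Omega (ZMod 3) (Cfsg.quadFormOdd m (ZMod 3))) = ⊥ := by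
    refine (Subgroup.eq_bot_iff_forall _).2 fun x hx => ?_
    have hy : f₂.symm x ∈ Subgroup.center G := Subgroup.mem_center_iff.2 fun g => by
      apply f₂.injective
      rw [map_mul, map_mul, f₂.apply_symm_apply]
      exact Subgroup.mem_center_iff.1 hx (f₂ g)
    rw [(inferInstance : (Subgroup.center G).Normal).eq_bot_or_eq_top.resolve_right fun ht => by
      obtain ⟨x, y, hxy⟩ := hna
      exact hxy (Subgroup.mem_center_iff.1 (ht ▸ Subgroup.mem_top y) x)] at hy
    rw [← f₂.apply_symm_apply x, Subgroup.mem_bot.1 hy, map_one]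
  exact ⟨m, ⟨f₂.trans (QuotientGroup.quotientBot.symm.trans
    (QuotientGroup.quotientMulEquivOfEq hcen.symm))⟩⟩

/-- The simple 3-transposition groups from the classification of the primitive classes. -/
theorem simple_groups [Finite G] [IsSimpleGroup G] (hna : ∃ x y : G, x * y ≠ y * x)
    (hK : ∀ D : Set G, Std D → Kind D) (hD : IsThreeTranspositionClass D) :
    (∃ n : ℕ, Nonempty (G ≃* Matrix.symplecticGroup (Fin n) (ZMod 2))) ∨ (∃ (F : Type) (_ : Field F) (_ : Fintype F) (n : ℕ), Fintype.card F = 4 ∧ Nonempty (G ≃* Cfsg.PSU n F 2)) ∨ (∃ m : ℕ, Nonempty (G ≃* Cfsg.POmega (ZMod 3) (Cfsg.quadFormOdd m (ZMod 3)))) ∨ Cfsg.IsFi22 G ∨ Cfsg.IsFi23 G := by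
  have hperf : commutator G = ⊤ :=
    ((inferInstance : (commutator G).Normal).eq_bot_or_eq_top).resolve_left fun hb => by
      obtain ⟨x, y, hxy⟩ := hna
      have hm' : x * y * x⁻¹ * y⁻¹ ∈ commutator G := by
        rw [commutator_def]
        exact Subgroup.commutator_mem_commutator (Subgroup.mem_top _) (Subgroup.mem_top _)
      rw [hb, Subgroup.mem_bot, mul_inv_eq_one, mul_inv_eq_iff_eq_mul] at hm'
      exact hxy hm'
  have hsimple : IsSimpleGroup ↥(commutator G) :=
    ((MulEquiv.subgroupCongr hperf).trans Subgroup.topEquiv).isSimpleGroup_congr.2 inferInstance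
  have hZ : Subgroup.center G = ⊥ :=
    ((inferInstance : (Subgroup.center G).Normal).eq_bot_or_eq_top).resolve_right fun ht => by
      obtain ⟨x, y, hxy⟩ := hna
      exact hxy (Subgroup.mem_center_iff.1 (ht ▸ Subgroup.mem_top y) x)
  have hne : D.Nonempty := by
    obtain ⟨d, hd, -⟩ := hD.2.1
    exact ⟨d, hd⟩
  have hw : ∃ a ∈ D, ∃ b ∈ D, a ≠ b ∧ Commute a b := by
    by_contra hw
    exact not_sym hna hne (width_one hD hZ hsimple hw)
  have hS := std_of hD hZ hsimple hw
  rcases hK D hS with ⟨m, -, e, -⟩ | ⟨n, -, e, -⟩ | h | h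
  · exact Or.inl ⟨m, ⟨e⟩⟩
  · exact Or.inr (Or.inl ⟨RigidGraph.He.K4, inferInstance, inferInstance, n, RigidGraph.He.K4.card_K4, ⟨e⟩⟩)
  · exact (not_sym hna hne h).elim
  rcases h with ⟨n, -, h⟩ | h | ⟨n, hn, h⟩ | h22 | h23 | h24
  · exact (not_sym hna hne h).elim
  · rcases h with ⟨m, hm, e, he⟩ | ⟨m, hm, e, he⟩
    · exact (not_orth_two hna hne (AutPOmega.geo_plus m) (by simp; omega) e he).elim
    · exact (not_orth_two hna hne (AutPOmega.geo_minus minus_form m) (by simp; omega) e he).elim
  · exact Or.inr (Or.inr (Or.inl (othree_simple hna hne hn h)))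
  · obtain ⟨Φ, -⟩ := FischerUnique.exists_iso hS.tg hS.prim h22
    refine Or.inr (Or.inr (Or.inr (Or.inl ⟨inferInstance, ?_⟩)))
    rw [← Nat.card_congr Φ.toEquiv]
    exact FischerPresented.Fi22.order_facts.2.1
  · obtain ⟨Φ, -⟩ := FischerUnique23.exists_iso hS.tg hS.prim h23
    refine Or.inr (Or.inr (Or.inr (Or.inr ⟨inferInstance, ?_⟩)))
    rw [← Nat.card_congr Φ.toEquiv, FischerPresented.Fi23.order_facts.2.1]
  · exfalso
    obtain ⟨h2, -, hcard, -⟩ := S5375.result hS.tg hS.prim h24
    haveI : (Cfsg.layer G).Normal := Cfsg.Agent.Components.layer_normal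
    rcases (inferInstance : (Cfsg.layer G).Normal).eq_bot_or_eq_top with h | h <;> rw [h] at h2
    · rw [Subgroup.index_bot, hcard] at h2
      norm_num at h2
    · rw [Subgroup.index_top] at h2
      omega

end Cfsg.Agent.FischerClassEnd
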